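import Cfsg.Agent.HNRec.Fusion.Iota

/-!
The centraliser of `z` in the model is a four-group times the alternating group of degree eight.
-/

set_option autoImplicit false
set_option maxRecDepth 100000

namespace Cfsg.Agent.HNRec.Fusion

open Cfsg.Agent.CosetCert Cfsg.Agent.DCoset FusionData
open scoped commutatorElement

/-- The tuple of a conjugate of `z`. -/
noncomputable def ukey (i : ℕ) : ℕ :=
  DCoset.HN.tab.app
    (force (DCoset.HN.tab.app DCoset.HN.tab.base (conjInvS.get i)) fun v => keyF [4] v) (conjS.get i)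

/-- One conjugate. -/
noncomputable def conjB (i : ℕ) : Bool :=
  force (conjInvS.get i) fun a => force (conjS.get i) fun b =>
    gate (DCoset.HN.tab.okWord a) (gate (DCoset.HN.tab.okWord b)
      (gate (Nat.beq (DCoset.HN.tab.app (DCoset.HN.tab.app DCoset.HN.tab.base a) b) DCoset.HN.tab.base)
        (Bool.rec (motive := fun _ => Bool) (Nat.blt (ukey i) (ukey (Nat.succ i))) true
          (Nat.beq (Nat.succ i) 2200))))

theorem conj_ok : allFrom conjB 0 2200 = true := by decide +kernel

theorem ukey_spec {i : ℕ} (hi : i < 2200) :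
    ukey i = hm.tup ((hw (conjS.get i))⁻¹ * hgen 2 * hw (conjS.get i)) := by
  have h := (allFrom_iff _ _ _).1 conj_ok i (Nat.zero_le _) (by omega)
  simp only [conjB, force_eq, gate_eq, Bool.and_eq_true, Nat.beq_eq] at h
  obtain ⟨ha, hb, hk, -⟩ := h
  rw [app_base ha, app_tup _ hb, ← hm_base, ← hm.one] at hk
  rw [ukey, force_eq, app_base ha, keyF_tup _ _ (by decide), hw_u, app_tup _ hb,
    eq_inv_of_mul_eq_one_left (hm.inj hk)]

theorem card_Cu_le : Nat.card Cu ≤ 80640 := by
  have hidx : 2200 ≤ Cu.index := by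
    rw [Subgroup.index_eq_card, ← Nat.card_fin 2200]
    refine Nat.card_le_card_of_injective (fun i : Fin 2200 => QuotientGroup.mk (hw (conjS.get i))⁻¹) ?_
    intro i j e
    have hc := Subgroup.mem_centralizer_singleton_iff.1 (QuotientGroup.eq.1 e)
    rw [inv_inv] at hc
    have e2 : ukey i = ukey j := by
      rw [ukey_spec i.2, ukey_spec j.2]
      congr 1
      calc (hw (conjS.get i))⁻¹ * hgen 2 * hw (conjS.get i)
          = (hw (conjS.get i))⁻¹ * (hgen 2 * (hw (conjS.get i) * (hw (conjS.get j))⁻¹)) *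
              hw (conjS.get j) := by group
        _ = _ := by rw [← hc]; group
    have hmono : ∀ d a : ℕ, a + d + 1 < 2200 → ukey a < ukey (a + d + 1) := by
      have step : ∀ a, a + 1 < 2200 → ukey a < ukey (a + 1) := by
        intro a ha
        have h := (allFrom_iff _ _ _).1 conj_ok a (Nat.zero_le _) (by omega)
        simp only [conjB, force_eq, gate_eq, Bool.and_eq_true] at h
        have h4 := h.2.2.2
        rw [show Nat.beq (Nat.succ a) 2200 = false from Bool.eq_false_iff.2 fun e => absurd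
          (Nat.eq_of_beq_eq_true e) (by omega)] at h4
        exact Nat.ble_eq.mp h4
      intro d
      induction d with
      | zero => exact fun a ha => step a ha
      | succ d ih => exact fun a ha => (ih a (by omega)).trans (step (a + d + 1) (by omega))
    apply Fin.ext
    rcases Nat.lt_trichotomy (i : ℕ) j with h | h | h
    · exact absurd e2 (by
        have := hmono (j - i - 1) i (by omega)
        rw [show (i : ℕ) + (j - i - 1) + 1 = j by omega] at this
        exact this.ne)
    · exact h
    · exact absurd e2 (by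
        have := hmono (i - j - 1) j (by omega)
        rw [show (j : ℕ) + (i - j - 1) + 1 = i by omega] at this
        exact this.ne')
  have hmul := Subgroup.card_mul_index Cu
  rw [card_HP] at hmul
  nlinarith

theorem wE_mem {w : ℕ} (hw : w < 4) : wE w ∈ Cu := by
  rw [Subgroup.mem_centralizer_singleton_iff]
  exact (wE_vals.2.2.1) ▸ (wE_comm hw (by norm_num : 2 < 4)).eq

theorem dec_inj {v w : ℕ} (hv : v < 4) (hw : w < 4) {a b : alternatingGroup (Fin 8)}
    (h : wE v * iota a = wE w * iota b) : v = w ∧ a = b := by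
  have e : iota (a * b⁻¹) = (wE v)⁻¹ * wE w := by
    rw [map_mul, map_inv, mul_inv_eq_iff_eq_mul, mul_assoc, eq_inv_mul_iff_mul_eq, h]
  have hc : a * b⁻¹ ∈ Subgroup.center (alternatingGroup (Fin 8)) := by
    refine Subgroup.mem_center_iff.2 fun c => iota_injective ?_
    rw [map_mul iota c, map_mul iota _ c, e]
    exact (((wE_comm_iota hv c).inv_left).mul_left (wE_comm_iota hw c)).symm.eq
  rw [center_alt8, Subgroup.mem_bot, mul_inv_eq_one] at hc
  subst hc
  exact ⟨wE_inj hv hw (mul_right_cancel h), rfl⟩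

/-- Every element commuting with `z` decomposes. -/
theorem exists_dec {p : HP} (hp : p * hgen 2 = hgen 2 * p) :
    ∃ w, w < 4 ∧ ∃ a, p = wE w * iota a := by
  let f : Fin 4 × alternatingGroup (Fin 8) → Cu := fun x =>
    ⟨wE x.1 * iota x.2, mul_mem (wE_mem x.1.2) (iota_mem x.2)⟩
  have hf : Function.Injective f := fun x y e => by
    obtain ⟨h1, h2⟩ := dec_inj x.1.2 y.1.2 (congrArg Subtype.val e)
    exact Prod.ext (Fin.ext h1) h2
  have hle : Nat.card Cu ≤ Nat.card (Fin 4 × alternatingGroup (Fin 8)) := by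
    rw [Nat.card_prod, Nat.card_fin, nat_card_alternatingGroup, Nat.card_fin]
    exact card_Cu_le.trans (by decide)
  obtain ⟨x, hx⟩ := (hf.bijective_of_nat_card_le hle).2 ⟨p, Subgroup.mem_centralizer_singleton_iff.2 hp⟩
  exact ⟨x.1, x.1.2, x.2, (congrArg Subtype.val hx).symm⟩

theorem commutator_dec {v w : ℕ} (hv : v < 4) (hw : w < 4) (a b : alternatingGroup (Fin 8)) :
    ⁅wE v * iota a, wE w * iota b⁆ = iota ⁅a, b⁆ := by
  have hva := wE_comm_iota hv a
  have hvb := wE_comm_iota hv b
  have hwa := wE_comm_iota hw a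
  have hwb := wE_comm_iota hw b
  have hvw := wE_comm hv hw
  rw [map_commutatorElement, commutatorElement_def, commutatorElement_def]
  calc wE v * iota a * (wE w * iota b) * (wE v * iota a)⁻¹ * (wE w * iota b)⁻¹
      = wE v * (iota a * wE w) * (iota b * (iota a)⁻¹ * (wE v)⁻¹) * ((iota b)⁻¹ * (wE w)⁻¹) := by group
    _ = wE v * wE w * (iota a * iota b * (iota a)⁻¹ * (iota b)⁻¹) * ((wE v)⁻¹ * (wE w)⁻¹) := by
      rw [hwa.symm.eq]
      have h1 : (wE v)⁻¹ * (iota b)⁻¹ = (iota b)⁻¹ * (wE v)⁻¹ := (hvb.inv_inv).eq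
      calc wE v * (wE w * iota a) * (iota b * (iota a)⁻¹ * (wE v)⁻¹) * ((iota b)⁻¹ * (wE w)⁻¹)
          = wE v * wE w * (iota a * iota b * (iota a)⁻¹) * ((wE v)⁻¹ * (iota b)⁻¹) * (wE w)⁻¹ := by group
        _ = _ := by rw [h1]; group
    _ = _ := by
      have h2 : Commute (wE v * wE w) (iota a * iota b * (iota a)⁻¹ * (iota b)⁻¹) := by
        have := (wE_comm_iota hv ⁅a, b⁆).mul_left (wE_comm_iota hw ⁅a, b⁆)
        rwa [map_commutatorElement, commutatorElement_def] at this
      rw [h2.eq, mul_assoc, ← mul_inv_rev, hvw.symm.eq, mul_inv_cancel, mul_one]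

end Cfsg.Agent.HNRec.Fusion
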