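import Cfsg.Agent.HNRec.Fusion.Words
import Cfsg.Agent.HNRec.Fusion.Data

/-!
The central involution is fused to `z`, and an element exchanges the two.
-/

set_option autoImplicit false
set_option maxRecDepth 100000
set_option linter.unusedSectionVars false

namespace Cfsg.Agent.HNRec.Fusion

open Cfsg.Agent.CosetCert Cfsg.Agent.DCoset SylData

/-- An element squaring to the central involution is even. -/
theorem sgn_root {p : HP} (h : p * p = hT) : sgn p = 1 := by
  by_contra ho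
  obtain ⟨q, hq⟩ := conj_syl (p := p) (by rw [h, hT_sq])
  refine odd_sq_ne hq (by rwa [map_mul, map_mul, map_inv, mul_comm (sgn q), mul_inv_cancel_right]) ?_
  calc q * p * q⁻¹ * (q * p * q⁻¹) = q * (p * p) * q⁻¹ := by group
    _ = hT := by rw [h, ← hT_central, mul_inv_cancel_right]

theorem sgn_u : sgn (hgen 2) ≠ 1 := by rw [sgn_z]; decide

/-- No root of the central involution commutes with `z`. -/
theorem no_root_comm {r : HP} (h : r * r = hT) (hc : r * hgen 2 = hgen 2 * r)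
    (hu : hgen 2 * hgen 2 = 1) : False := by
  have e : r * hgen 2 * (r * hgen 2) = hT := by
    calc r * hgen 2 * (r * hgen 2) = r * (hgen 2 * r) * hgen 2 := by group
      _ = r * r * (hgen 2 * hgen 2) := by rw [← hc]; group
      _ = hT := by rw [h, hu, mul_one]
  have := sgn_root e
  rw [map_mul, sgn_root h, one_mul] at this
  exact sgn_u this

theorem hu_sq : hgen 2 * hgen 2 = 1 := by
  rw [← hw_u, ← hw_append, ← hw_nil]
  exact same_spec (by decide +kernel)

theorem iu_ok : conjI iU FusionData.iuW [4] = true := by decide +kernel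

theorem conj_iU : ∃ q : HP, q * hgen 2 * q⁻¹ = E iU := by
  refine ⟨Amalgam.hw FusionData.iuW, ?_⟩
  rw [← hw_u, ← conjI_spec special_ok.2.2.2.1 iu_ok]
  group

/-- The classes of involutions other than the central one. -/
theorem classes {p : HP} (h2 : p * p = 1) (h1 : p ≠ 1) (ht : p ≠ hT) :
    (sgn p = 1 ∧ ∃ q, p = q * z1 * q⁻¹ ∨ p = q * z0 * q⁻¹) ∨
      (sgn p ≠ 1 ∧ ∃ q, p = q * hgen 2 * q⁻¹ ∨ p = q * E iUp * q⁻¹) := by
  obtain ⟨q, hq⟩ := conj_syl (p := p) (by rw [h2, mul_one])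
  have hne : q * p * q⁻¹ ≠ 1 := fun e => h1 (by simpa using (conj_eq_one_iff (a := q) (b := p)).1 e)
  have hsq : q * p * q⁻¹ * (q * p * q⁻¹) = 1 := by
    calc q * p * q⁻¹ * (q * p * q⁻¹) = q * (p * p) * q⁻¹ := by group
      _ = 1 := by rw [h2]; group
  obtain ⟨r, hr, v, hv⟩ := invol_classes hq hsq hne
  have hp : p = (v * q)⁻¹ * E r * (v * q) := by
    calc p = q⁻¹ * (q * p * q⁻¹) * q := by group
      _ = q⁻¹ * (v⁻¹ * E r * v) * q := by rw [hv]
      _ = _ := by group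
  have hs : sgn p = sgn (E r) := by
    rw [hp, map_mul, map_mul, map_inv, mul_right_comm, inv_mul_cancel, one_mul]
  have hp' : p = (v * q)⁻¹ * E r * ((v * q)⁻¹)⁻¹ := by rw [inv_inv]; exact hp
  simp only [List.mem_cons, List.not_mem_nil, or_false] at hr
  rcases hr with rfl | rfl | rfl | rfl | rfl
  · refine absurd ?_ ht
    rw [hp, E_iT, mul_assoc, hT_central, inv_mul_cancel_left]
  · exact Or.inl ⟨hs.trans sgn_z1, _, Or.inl hp'⟩
  · exact Or.inl ⟨hs.trans sgn_z0, _, Or.inr hp'⟩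
  · obtain ⟨c, hc⟩ := conj_iU
    refine Or.inr ⟨fun e => odd_reps.1 (hs.symm.trans e), (v * q)⁻¹ * c, Or.inl ?_⟩
    rw [hp', ← hc]; group
  · exact Or.inr ⟨fun e => odd_reps.2 (hs.symm.trans e), _, Or.inr hp'⟩

/-- Three roots of `z1` with an odd involution as product. -/
theorem roots_ok : gate (Nat.beq (imul 37 37) iZ1) (gate (Nat.beq (imul 62 62) iZ1)
    (gate (Nat.beq (imul 427 427) iZ1)
      (force (imul (imul 37 62) 427) fun e =>
        gate (Nat.beq (imul e e) i0) (Nat.beq (parI e) 1)))) = true := by decide +kernel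

variable {G : Type*} [Group G] [Finite G] (S : Setting G)

theorem Φ_sq : S.Φ hT * S.Φ hT = 1 := by rw [← map_mul, hT_sq, map_one]

theorem Φ_conj (q p : HP) : IsConj (S.Φ p) (S.Φ (q * p * q⁻¹)) :=
  isConj_iff.2 ⟨S.Φ q, by rw [map_mul, map_mul, map_inv]⟩

/-- Conjugates of the central involution among the other involutions of the model. -/
theorem conj_cases (hup : ¬ IsConj (S.Φ hT) (S.Φ (E iUp))) {p : HP}
    (hc : IsConj (S.Φ hT) (S.Φ p)) (ht : p ≠ hT) :
    ∃ q, p = q * z1 * q⁻¹ ∨ p = q * hgen 2 * q⁻¹ := by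
  have h2 : p * p = 1 := S.inj (by
    obtain ⟨g, hg⟩ := isConj_iff.1 hc
    rw [map_mul, ← hg, map_one, show g * S.Φ hT * g⁻¹ * (g * S.Φ hT * g⁻¹) =
      g * (S.Φ hT * S.Φ hT) * g⁻¹ by group, Φ_sq]
    group)
  have h1 : p ≠ 1 := fun e => by
    rw [e, map_one, isConj_one_left] at hc
    exact hT_ne (S.inj (hc.trans (map_one _).symm))
  rcases classes h2 h1 ht with ⟨-, q, h | h⟩ | ⟨-, q, h | h⟩
  · exact ⟨q, Or.inl h⟩
  · exact absurd (hc.trans (h ▸ (Φ_conj S q z0).symm)) S.not_conj_z0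
  · exact ⟨q, Or.inr h⟩
  · exact absurd (hc.trans (h ▸ (Φ_conj S q (E iUp)).symm)) hup

/-- The central involution has another conjugate commuting with it. -/
theorem exists_conj [IsSimpleGroup G] : ∃ p, p ≠ hT ∧ IsConj (S.Φ hT) (S.Φ p) := by
  by_contra hno
  have hne : S.Φ hT ≠ 1 := fun h => hT_ne (S.inj (h.trans (map_one _).symm))
  have hord : orderOf (S.Φ hT) = 2 := orderOf_eq_prime (by rw [pow_two, Φ_sq]) hne
  have hiso : Cfsg.IsIsolatedInvolution (S.Φ hT) := by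
    refine ⟨hord, fun g hc => ?_⟩
    obtain ⟨p, hp⟩ := S.mem_range _ hc.eq.symm
    by_contra hg
    exact hno ⟨p, fun e => hg (by rw [← hp, e]), isConj_iff.2 ⟨g, hp.symm⟩⟩
  have he : Even (Nat.card G) := even_iff_two_dvd.2 (hord ▸ orderOf_dvd_natCard _)
  have hcen : S.Φ hT ∈ Subgroup.center G := Subgroup.mem_center_iff.mpr fun g => by
    have h := Invol.zstar hiso g
    rw [FTCons.oddCore_eq_bot_of_simple he, Subgroup.mem_bot, mul_inv_eq_one, mul_inv_eq_iff_eq_mul] at h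
    exact h.symm
  rcases (inferInstance : (Subgroup.center G).Normal).eq_bot_or_eq_top with h | h
  · rw [h, Subgroup.mem_bot] at hcen
    exact hne hcen
  · have hall : ∀ y, ∃ p, S.Φ p = y := fun y => S.mem_range y
      (Subgroup.mem_center_iff.1 (h ▸ Subgroup.mem_top y) _).symm
    obtain ⟨a, b, hab⟩ : ∃ a b : HP, a * b ≠ b * a := by
      refine ⟨hgen 2, hgen 0, ?_⟩
      rw [← hw_u, ← hw_x, ← hw_append, ← hw_append]
      exact differ_spec (by decide +kernel)
    refine hab (S.inj ?_)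
    rw [map_mul, map_mul]
    exact Subgroup.mem_center_iff.1 (h ▸ Subgroup.mem_top (S.Φ b)) (S.Φ a)

/-- The central involution is fused to `z`. -/
theorem conj_u [IsSimpleGroup G] (hup : ¬ IsConj (S.Φ hT) (S.Φ (E iUp))) :
    IsConj (S.Φ hT) (S.Φ (hgen 2)) := by
  obtain ⟨p, hp, hc⟩ := exists_conj S
  obtain ⟨q, rfl | rfl⟩ := conj_cases S hup hc hp
  swap
  · exact hc.trans (Φ_conj S q (hgen 2)).symm
  obtain ⟨g, hg⟩ := isConj_iff.1 (hc.trans (Φ_conj S q z1).symm)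
  have hf : ∀ m : syl, ∃ r, S.Φ r = g⁻¹ * S.Φ m * g := fun m => S.mem_range _ (by
    have h1 := congrArg S.Φ (z1_central m.2)
    rw [map_mul, map_mul, ← hg] at h1
    calc g⁻¹ * S.Φ m * g * S.Φ hT = g⁻¹ * (S.Φ m * (g * S.Φ hT * g⁻¹)) * g := by group
      _ = _ := by rw [h1]; group)
  choose f hf using hf
  have hmul : ∀ a b : syl, f (a * b) = f a * f b := fun a b => S.inj (by
    rw [map_mul S.Φ (f a), hf, hf, hf, Subgroup.coe_mul, map_mul]; group)
  have hinj : Function.Injective f := fun a b e => Subtype.ext (S.inj (by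
    have := congrArg S.Φ e
    rw [hf, hf] at this
    exact mul_left_cancel (mul_right_cancel this)))
  obtain ⟨hT8, hZ, -⟩ := special_ok
  let zz : syl := ⟨z1, E_mem hZ⟩
  have hzz : f zz = hT := S.inj (by rw [hf, ← hg]; group)
  have h := roots_ok
  simp only [gate_eq, force_eq, Bool.and_eq_true, Nat.beq_eq] at h
  obtain ⟨ha, hb, hc', he, hpar⟩ := h
  have hroot : ∀ i (hi : i < 2048), imul i i = iZ1 → sgn (f ⟨E i, E_mem hi⟩) = 1 := fun i hi h => by
    refine sgn_root ?_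
    rw [← hmul, ← hzz]
    exact congrArg f (Subtype.ext (by show E i * E i = _; rw [(imul_spec hi hi).2, h]; rfl))
  obtain ⟨hab, eab⟩ := imul_spec (show 37 < 2048 by norm_num) (show 62 < 2048 by norm_num)
  obtain ⟨habc, eabc⟩ := imul_spec hab (show 427 < 2048 by norm_num)
  set k := imul (imul 37 62) 427
  let ee : syl := ⟨E k, E_mem habc⟩
  have hev : sgn (f ee) = 1 := by
    have e : ee = (⟨E 37, E_mem (by norm_num)⟩ : syl) * ⟨E 62, E_mem (by norm_num)⟩ *
        ⟨E 427, E_mem (by norm_num)⟩ :=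
      Subtype.ext (by show E k = E 37 * E 62 * E 427; rw [eab, eabc])
    rw [e, hmul, hmul, map_mul, map_mul, hroot 37 (by norm_num) ha, hroot 62 (by norm_num) hb, hroot 427 (by norm_num) hc', one_mul, one_mul]
  have hodd : sgn (E k) ≠ 1 := by
    rw [(E_spec habc).2, hpar]; decide
  have hk2 : E k * E k = 1 := by rw [(imul_spec habc habc).2, he, E_i0]
  have h1e : f 1 = 1 := S.inj (by rw [hf, Subgroup.coe_one, map_one]; group)
  have hee2 : f ee * f ee = 1 := by rw [← hmul, ← h1e]; exact congrArg f (Subtype.ext hk2)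
  have hne1 : f ee ≠ 1 := fun e => hodd (by
    rw [show E k = 1 from congrArg Subtype.val (hinj (e.trans h1e.symm))]; exact map_one sgn)
  have hneT : f ee ≠ hT := fun e => hodd (by
    rw [show E k = z1 from congrArg Subtype.val (hinj (e.trans hzz.symm))]; exact sgn_z1)
  -- an odd involution of the subgroup goes to the class of `z1`
  obtain ⟨m, hm2, hmodd, q', hq'⟩ : ∃ m : syl, (m : HP) * m = 1 ∧ sgn (m : HP) ≠ 1 ∧
      ∃ q', f m = q' * z1 * q'⁻¹ := by
    rcases classes hee2 hne1 hneT with ⟨-, q', h | h⟩ | ⟨h, -⟩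
    · exact ⟨ee, hk2, hodd, q', h⟩
    · refine ⟨ee * zz, ?_, ?_, q', ?_⟩
      · show E k * z1 * (E k * z1) = 1
        have hz2 : z1 * z1 = 1 := S.inj (by
          rw [map_mul, ← hg, map_one,
            show g * S.Φ hT * g⁻¹ * (g * S.Φ hT * g⁻¹) = g * (S.Φ hT * S.Φ hT) * g⁻¹ by group, Φ_sq]
          group)
        calc E k * z1 * (E k * z1) = E k * (z1 * E k) * z1 := by group
          _ = E k * E k * (z1 * z1) := by rw [← z1_central (E_mem habc)]; group
          _ = 1 := by rw [hk2, hz2, one_mul]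
      · show sgn (E k * z1) ≠ 1
        rwa [map_mul, sgn_z1, mul_one]
      · rw [hmul, hzz, h, z0_eq]
        calc q' * (z1 * hT) * q'⁻¹ * hT = q' * z1 * (hT * q'⁻¹) * hT := by group
          _ = q' * z1 * q'⁻¹ * (hT * hT) := by rw [hT_central]; group
          _ = _ := by rw [hT_sq, mul_one]
    · exact absurd hev h
  have hm1 : (m : HP) ≠ 1 := fun e => hmodd (by rw [e, map_one])
  have hmT : (m : HP) ≠ hT := fun e => hmodd (by rw [e, sgn_hT])
  have hfinal : IsConj (S.Φ hT) (S.Φ (m : HP)) := by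
    refine ((isConj_iff.2 ⟨g, hg⟩ : IsConj (S.Φ hT) (S.Φ z1)).trans (Φ_conj S q' z1)).trans ?_
    rw [← hq', hf]
    exact isConj_iff.2 ⟨g, by group⟩
  rcases classes hm2 hm1 hmT with ⟨h, -⟩ | ⟨-, q'', h | h⟩
  · exact absurd h hmodd
  · exact hfinal.trans (h ▸ (Φ_conj S q'' (hgen 2)).symm)
  · exact absurd (hfinal.trans (h ▸ (Φ_conj S q'' (E iUp)).symm)) hup

/-- An element exchanging the central involution and `z`. -/
theorem exists_exchange [IsSimpleGroup G] (hup : ¬ IsConj (S.Φ hT) (S.Φ (E iUp))) :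
    ∃ g : G, g * S.Φ (hgen 2) * g⁻¹ = S.Φ hT ∧ g * S.Φ hT * g⁻¹ = S.Φ (hgen 2) := by
  obtain ⟨g, hg⟩ := isConj_iff.1 (conj_u S hup).symm
  have hcomm : S.Φ hT * S.Φ (hgen 2) = S.Φ (hgen 2) * S.Φ hT := by
    rw [← map_mul, ← map_mul, hT_central]
  obtain ⟨p, hp⟩ := S.mem_range (g * S.Φ hT * g⁻¹) (by
    have key : g * S.Φ hT * g⁻¹ * (g * S.Φ (hgen 2) * g⁻¹) =
        g * S.Φ (hgen 2) * g⁻¹ * (g * S.Φ hT * g⁻¹) := by
      calc g * S.Φ hT * g⁻¹ * (g * S.Φ (hgen 2) * g⁻¹)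
          = g * (S.Φ hT * S.Φ (hgen 2)) * g⁻¹ := by group
        _ = _ := by rw [hcomm]; group
    rwa [hg] at key)
  have hpT : p ≠ hT := fun e => by
    have h1 : g * S.Φ hT * g⁻¹ = g * S.Φ (hgen 2) * g⁻¹ := by rw [← hp, e, hg]
    exact sgn_u (by rw [← S.inj (mul_left_cancel (mul_right_cancel h1)), sgn_hT])
  obtain ⟨q, rfl | rfl⟩ := conj_cases S hup (isConj_iff.2 ⟨g, hp.symm⟩) hpT
  · exfalso
    obtain ⟨-, hZ, -⟩ := special_ok
    have h := roots_ok
    simp only [gate_eq, force_eq, Bool.and_eq_true, Nat.beq_eq] at h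
    have hm : E 37 * E 37 = z1 := by rw [(imul_spec (by norm_num) (by norm_num)).2, h.1]; rfl
    set n := q * E 37 * q⁻¹ with hn
    have hnn : S.Φ n * S.Φ n = g * S.Φ hT * g⁻¹ := by
      rw [← map_mul, hn, show q * E 37 * q⁻¹ * (q * E 37 * q⁻¹) = q * (E 37 * E 37) * q⁻¹ by group, hm, hp]
    obtain ⟨r, hr⟩ := S.mem_range (g⁻¹ * S.Φ n * g) (by
      have : S.Φ n * (g * S.Φ hT * g⁻¹) = g * S.Φ hT * g⁻¹ * S.Φ n := by rw [← hnn, mul_assoc]
      calc g⁻¹ * S.Φ n * g * S.Φ hT = g⁻¹ * (S.Φ n * (g * S.Φ hT * g⁻¹)) * g := by group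
        _ = _ := by rw [this]; group)
    refine no_root_comm (r := r) (S.inj ?_) (S.inj ?_) hu_sq
    · rw [map_mul, hr]
      calc g⁻¹ * S.Φ n * g * (g⁻¹ * S.Φ n * g) = g⁻¹ * (S.Φ n * S.Φ n) * g := by group
        _ = _ := by rw [hnn]; group
    · rw [map_mul, map_mul, hr]
      have : S.Φ n * S.Φ hT = S.Φ hT * S.Φ n := by rw [← map_mul, ← map_mul, hT_central]
      calc g⁻¹ * S.Φ n * g * S.Φ (hgen 2) = g⁻¹ * (S.Φ n * (g * S.Φ (hgen 2) * g⁻¹)) * g := by group
        _ = g⁻¹ * (g * S.Φ (hgen 2) * g⁻¹ * S.Φ n) * g := by rw [hg, this]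
        _ = _ := by group
  · rw [map_mul, map_mul, map_inv] at hp
    refine ⟨(S.Φ q)⁻¹ * g, ?_, ?_⟩
    · calc (S.Φ q)⁻¹ * g * S.Φ (hgen 2) * ((S.Φ q)⁻¹ * g)⁻¹
          = (S.Φ q)⁻¹ * (g * S.Φ (hgen 2) * g⁻¹) * S.Φ q := by group
        _ = _ := by rw [hg, mul_assoc, ← map_mul, hT_central, map_mul, inv_mul_cancel_left]
    · calc (S.Φ q)⁻¹ * g * S.Φ hT * ((S.Φ q)⁻¹ * g)⁻¹
          = (S.Φ q)⁻¹ * (g * S.Φ hT * g⁻¹) * S.Φ q := by group
        _ = _ := by rw [← hp]; group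

end Cfsg.Agent.HNRec.Fusion
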