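import Cfsg.Agent.HNRec.Fusion.Words
import Cfsg.Agent.HNRec.Fusion.Data
import Cfsg.Agent.LyLocal.AltCover

/-!
The alternating group of degree eight in the centraliser of `z`.
-/

set_option autoImplicit false
set_option maxRecDepth 100000

namespace Cfsg.Agent.HNRec.Fusion

open Cfsg.Agent.CosetCert Cfsg.Agent.DCoset Cfsg.Agent.ShortPres FusionData

/-- The word of a three-cycle. -/
def eWord (i : ℕ) : List ℕ := eW.getD i []

/-- A three-cycle of the centraliser. -/
noncomputable def eE (i : ℕ) : HP := Amalgam.hw (eWord i)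

/-- The word of an element of the four-group `⟨x², z⟩`. -/
def wWord (w : ℕ) : List ℕ := [[], [0, 0], [4], [0, 0, 4]].getD w []

/-- The exchange of `x²` and `z` on the four-group. -/
def wSwap (w : ℕ) : ℕ := [0, 2, 1, 3].getD w 0

/-- An element of the four-group. -/
noncomputable def wE (w : ℕ) : HP := Amalgam.hw (wWord w)

/-- The word of a decomposed element. -/
def dWord (d : ℕ × List ℕ) : List ℕ := wWord d.1 ++ d.2.flatMap eWord

/-- A decomposed element. -/
noncomputable def dE (d : ℕ × List ℕ) : HP := Amalgam.hw (dWord d)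

/-- The image of a decomposition under the exchange. -/
def dSwap (d : ℕ × List ℕ) : ℕ × List ℕ := (wSwap d.1, d.2.map fun i => qI.getD i 0)

theorem hw_flatMap (l : List ℕ) : Amalgam.hw (l.flatMap eWord) = (l.map eE).prod := by
  induction l with
  | nil => simp [hw_nil]
  | cons a l ih => rw [List.flatMap_cons, hw_append, ih, List.map_cons, List.prod_cons]; rfl

theorem dE_eq (d : ℕ × List ℕ) : dE d = wE d.1 * (d.2.map eE).prod := by
  rw [dE, dWord, hw_append, hw_flatMap]; rfl

theorem iota_ok :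
    allFrom (fun i => gate (same (eWord i ++ (eWord i ++ eWord i)) [])
      (gate (differ (eWord i) [])
        (gate (same (eWord i ++ [4]) ([4] ++ eWord i))
          (gate (same ([0] ++ (eWord i ++ [1])) (eWord (qI.getD i 0)))
            (allFrom (fun j => Bool.rec (motive := fun _ => Bool)
              (same (eWord i ++ (eWord j ++ (eWord i ++ eWord j))) []) true (Nat.beq i j)) 0 6))))) 0 6 = true := by
  decide +kernel

theorem eE_spec {i : ℕ} (hi : i < 6) :
    eE i * (eE i * eE i) = 1 ∧ eE i ≠ 1 ∧ eE i * hgen 2 = hgen 2 * eE i ∧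
      hgen 0 * (eE i * (hgen 0)⁻¹) = eE (qI.getD i 0) ∧
      ∀ j, j < 6 → i ≠ j → eE i * (eE j * (eE i * eE j)) = 1 := by
  have h := (allFrom_iff _ _ _).1 iota_ok i (Nat.zero_le _) (by omega)
  simp only [gate_eq, Bool.and_eq_true] at h
  obtain ⟨h1, h2, h3, h4, h5⟩ := h
  refine ⟨?_, ?_, ?_, ?_, fun j hj hij => ?_⟩
  · have := same_spec h1
    rwa [hw_append, hw_append, hw_nil] at this
  · have := differ_spec h2
    rwa [hw_nil] at this
  · have := same_spec h3
    rwa [hw_append, hw_append, hw_u] at this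
  · have := same_spec h4
    rw [hw_append, hw_append, hw_x, show Amalgam.hw [1] = (hgen 0)⁻¹ from
      hw_inv6 (w := [0]) (by decide)] at this
    exact this
  · have := (allFrom_iff _ _ _).1 h5 j (Nat.zero_le _) (by omega)
    rw [show Nat.beq i j = false from Bool.eq_false_iff.2 fun e => hij (Nat.eq_of_beq_eq_true e)] at this
    have := same_spec this
    rwa [hw_append, hw_append, hw_append, hw_nil] at this

/-- The two fixed points of the three-cycles. -/
abbrev Pt8 : Type := Rest (0 : Fin 8) 1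

/-- The number of a point. -/
def pIdx (x : Pt8) : ℕ := (x.1 : ℕ) - 2

theorem ne01 : (0 : Fin 8) ≠ 1 := by decide

theorem pIdx_lt (x : Pt8) : pIdx x < 6 := by have := x.1.isLt; rw [pIdx]; omega

theorem pIdx_inj {x y : Pt8} (h : pIdx x = pIdx y) : x = y := by
  have hx0 : (x.1 : ℕ) ≠ 0 := fun e => x.2.1 (Fin.ext e)
  have hx1 : (x.1 : ℕ) ≠ 1 := fun e => x.2.2 (Fin.ext e)
  have hy0 : (y.1 : ℕ) ≠ 0 := fun e => y.2.1 (Fin.ext e)
  have hy1 : (y.1 : ℕ) ≠ 1 := fun e => y.2.2 (Fin.ext e)
  rw [pIdx, pIdx] at h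
  exact Subtype.ext (Fin.ext (by omega))

/-- The point of a number. -/
def pt (i : ℕ) : Pt8 :=
  ⟨⟨i % 6 + 2, by omega⟩, by simp [Fin.ext_iff], by simp [Fin.ext_iff]⟩

theorem pIdx_pt {i : ℕ} (hi : i < 6) : pIdx (pt i) = i := by
  rw [pIdx, pt]; simp [Nat.mod_eq_of_lt hi]

/-- The three-cycle with a number. -/
def cE (i : ℕ) : alternatingGroup (Fin 8) := cycR ne01 (pt i)

theorem exists_iota : ∃ f : alternatingGroup (Fin 8) →* HP, ∀ i, i < 6 → f (cE i) = eE i := by
  have hrel : ∀ r ∈ LyLocal.carmRels (0 : Fin 8) 1, FreeGroup.lift (fun x => eE (pIdx x)) r = 1 := by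
    rintro r (⟨x, rfl⟩ | ⟨x, y, hxy, rfl⟩)
    · rw [map_pow, FreeGroup.lift_apply_of, pow_three]
      exact (eE_spec (pIdx_lt x)).1
    · rw [map_pow, map_mul, FreeGroup.lift_apply_of, FreeGroup.lift_apply_of, pow_two, mul_assoc]
      exact (eE_spec (pIdx_lt x)).2.2.2.2 _ (pIdx_lt y) fun h => hxy (pIdx_inj h)
  obtain ⟨e, he⟩ := LyLocal.carm_iso ne01
  refine ⟨(PresentedGroup.toGroup hrel).comp e.symm.toMonoidHom, fun i hi => ?_⟩
  rw [cE, ← he, MonoidHom.comp_apply, MulEquiv.coe_toMonoidHom, MulEquiv.symm_apply_apply,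
    PresentedGroup.toGroup.of, pIdx_pt hi]

/-- The alternating group in the model. -/
noncomputable def iota : alternatingGroup (Fin 8) →* HP := exists_iota.choose

theorem iota_cE {i : ℕ} (hi : i < 6) : iota (cE i) = eE i := exists_iota.choose_spec i hi

theorem closure_cE : Subgroup.closure (cE '' Set.Iio 6) = ⊤ := by
  rw [eq_top_iff, ← closure_cycR ne01, Subgroup.closure_le]
  rintro _ ⟨x, rfl⟩
  exact Subgroup.subset_closure ⟨pIdx x, pIdx_lt x, by rw [cE, pIdx_inj (pIdx_pt (pIdx_lt x))]⟩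

instance simple_alt8 : IsSimpleGroup (alternatingGroup (Fin 8)) :=
  alternatingGroup.isSimpleGroup (by simp)

theorem iota_injective : Function.Injective iota := by
  rw [← MonoidHom.ker_eq_bot_iff]
  rcases IsSimpleGroup.eq_bot_or_eq_top_of_normal iota.ker iota.normal_ker with h | h
  · exact h
  · exact absurd ((iota_cE (by norm_num : 0 < 6)).symm.trans (MonoidHom.mem_ker.1 (h ▸ Subgroup.mem_top _)))
      (eE_spec (by norm_num : 0 < 6)).2.1

theorem center_alt8 : Subgroup.center (alternatingGroup (Fin 8)) = ⊥ := by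
  rcases IsSimpleGroup.eq_bot_or_eq_top_of_normal (Subgroup.center (alternatingGroup (Fin 8))) inferInstance
    with h | h
  · exact h
  · exfalso
    have h1 := Subgroup.mem_center_iff.1 (h ▸ Subgroup.mem_top (cE 0)) (cE 1)
    revert h1
    rw [Subtype.ext_iff, Equiv.ext_iff]
    decide +kernel

theorem commutator_alt8 : commutator (alternatingGroup (Fin 8)) = ⊤ := by
  rcases IsSimpleGroup.eq_bot_or_eq_top_of_normal (commutator (alternatingGroup (Fin 8))) inferInstance
    with h | h
  · exfalso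
    rw [commutator_eq_bot_iff_center_eq_top, center_alt8] at h
    exact bot_ne_top h
  · exact h

theorem dE_iota {d : ℕ × List ℕ} (hd : ∀ i ∈ d.2, i < 6) :
    dE d = wE d.1 * iota (d.2.map cE).prod := by
  rw [dE_eq, map_list_prod, List.map_map]
  congr 2
  exact List.map_congr_left fun i hi => (iota_cE (hd i hi)).symm

theorem w_ok :
    allFrom (fun v => allFrom (fun w => Bool.rec (motive := fun _ => Bool)
      (differ (wWord v) (wWord w)) true (Nat.beq v w)) 0 4) 0 4 = true := by decide +kernel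

theorem wE_inj {v w : ℕ} (hv : v < 4) (hw : w < 4) (h : wE v = wE w) : v = w := by
  by_contra hne
  have := (allFrom_iff _ _ _).1 ((allFrom_iff _ _ _).1 w_ok v (Nat.zero_le _) (by omega)) w
    (Nat.zero_le _) (by omega)
  rw [show Nat.beq v w = false from Bool.eq_false_iff.2 fun e => hne (Nat.eq_of_beq_eq_true e)] at this
  exact differ_spec this h

theorem wE_vals : wE 0 = 1 ∧ wE 1 = hT ∧ wE 2 = hgen 2 ∧ wE 3 = hT * hgen 2 := by
  refine ⟨hw_nil, hw_t, hw_u, ?_⟩
  rw [wE, show wWord 3 = [0, 0] ++ [4] from rfl, hw_append, hw_t, hw_u]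

/-- The elements commuting with `z`. -/
noncomputable abbrev Cu : Subgroup HP := Subgroup.centralizer ({hgen 2} : Set HP)

theorem iota_mem (a : alternatingGroup (Fin 8)) : iota a ∈ Cu := by
  have : (⊤ : Subgroup (alternatingGroup (Fin 8))) ≤ Cu.comap iota := by
    rw [← closure_cE, Subgroup.closure_le]
    rintro _ ⟨i, hi, rfl⟩
    rw [SetLike.mem_coe, Subgroup.mem_comap, iota_cE hi, Subgroup.mem_centralizer_singleton_iff]
    exact (eE_spec hi).2.2.1
  exact this (Subgroup.mem_top a)

theorem iota_comm_u (a : alternatingGroup (Fin 8)) : iota a * hgen 2 = hgen 2 * iota a :=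
  Subgroup.mem_centralizer_singleton_iff.1 (iota_mem a)

theorem wE_comm_iota {w : ℕ} (hw : w < 4) (a : alternatingGroup (Fin 8)) :
    Commute (wE w) (iota a) := by
  obtain ⟨h0, h1, h2, h3⟩ := wE_vals
  have ht : Commute hT (iota a) := hT_central _
  have hu : Commute (hgen 2) (iota a) := (iota_comm_u a).symm
  interval_cases w
  · rw [h0]; exact Commute.one_left _
  · rwa [h1]
  · rwa [h2]
  · rw [h3]; exact ht.mul_left hu

theorem wE_comm {v w : ℕ} (hv : v < 4) (hw : w < 4) : Commute (wE v) (wE w) := by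
  obtain ⟨h0, h1, h2, h3⟩ := wE_vals
  have ht : ∀ p, Commute hT p := hT_central
  have hu : ∀ p, Commute (hgen 2) p → Commute (hT * hgen 2) p := fun p h => (ht p).mul_left h
  have aux : ∀ p, (p = 1 ∨ p = hT ∨ p = hgen 2 ∨ p = hT * hgen 2) → Commute (hgen 2) p := by
    rintro p (rfl | rfl | rfl | rfl)
    exacts [Commute.one_right _, (ht _).symm, Commute.refl _, (ht _).symm.mul_right (Commute.refl _)]
  have hw' : wE w = 1 ∨ wE w = hT ∨ wE w = hgen 2 ∨ wE w = hT * hgen 2 := by
    interval_cases w <;> tauto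
  interval_cases v
  · rw [h0]; exact Commute.one_left _
  · rw [h1]; exact ht _
  · rw [h2]; exact aux _ hw'
  · rw [h3]; exact hu _ (aux _ hw')

theorem wE_mul {v w : ℕ} (hv : v < 4) (hw : w < 4) : ∃ r, r < 4 ∧ wE v * wE w = wE r := by
  refine ⟨v ^^^ w, Nat.xor_lt_two_pow (n := 2) hv hw, ?_⟩
  rw [wE, wE, wE, ← hw_append]
  apply same_spec
  interval_cases v <;> interval_cases w <;> decide +kernel

end Cfsg.Agent.HNRec.Fusion
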