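import Cfsg.Agent.HNRec.Fusion.Swap

/-!
The exchanging involution satisfies the relations of the amalgam.
-/

set_option autoImplicit false
set_option maxRecDepth 100000
set_option linter.unusedSectionVars false

namespace Cfsg.Agent.HNRec.Fusion

open Cfsg.Agent.CosetCert Cfsg.Agent.DCoset FusionData Amalgam

/-- A decomposition in range. -/
def okD (d : ℕ × List ℕ) : Bool := Nat.blt d.1 4 && d.2.all (Nat.blt · 6)

theorem okD_spec {d : ℕ × List ℕ} (h : okD d = true) : d.1 < 4 ∧ ∀ i ∈ d.2, i < 6 := by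
  simp only [okD, Bool.and_eq_true, Nat.blt_eq, List.all_eq_true] at h
  exact h

theorem gen_ok : allFrom (fun k => gate (okD (genD.getD k (0, [])))
    (gate (same (Data.dGens.getD k []) (dWord (genD.getD k (0, []))))
      (same (Data.dImgs.getD k []) (dWord (dSwap (genD.getD k (0, []))))))) 0 6 = true := by decide +kernel

/-- The first word of the second relation. -/
def cW : List ℕ := (Data.tri.getD 1 ([], [], [])).1

/-- The middle word of the second relation. -/
def hW : List ℕ := (Data.tri.getD 1 ([], [], [])).2.1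

/-- The value of `s * g * s * g * s`. -/
def qW : List ℕ := (Data.tri.getD 1 ([], [], [])).2.2 ++ dWord (dSwap cD)

/-- A correction. -/
def corr (k : ℕ) : ℕ × List ℕ := (k % 4, if k / 4 = 0 then [] else vD.2)

theorem rel_facts :
    cW ++ [4] = gW ∧ same (gW ++ gW) [] = true ∧ same (cW ++ hW) [] = true ∧
    same (gW ++ ([4] ++ gW)) (dWord vD) = true ∧ same (gW ++ (dWord vD ++ gW)) [4] = true ∧
    dSwap vD = (3, vD.2.map fun i => qI.getD i 0) ∧ same (dWord (dSwap vD)) (dWord vD) = true ∧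
    same (cW ++ ([0, 0, 4] ++ hW)) (dWord cD) = true ∧ okD cD = true ∧ okD vD = true ∧
    same [1, 4] [4, 0] = true ∧ same (xuW ++ [4, 0]) ([4] ++ xuW) = true := by
  refine ⟨by decide +kernel, ?_, ?_, ?_, ?_, rfl, ?_, ?_, ?_, ?_, ?_, ?_⟩ <;> decide +kernel

/-- A chain. -/
def chain (k : ℕ) : (ℕ × List ℕ) × (ℕ × List ℕ) × (ℕ × List ℕ) :=
  chains.getD k ((0, []), (0, []), (0, []))

theorem chain_ok : allFrom (fun k =>
    gate (okD (chain k).1) (gate (okD (chain k).2.1) (gate (okD (chain k).2.2)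
      (gate (same (gW ++ (dWord (dSwap (chain k).1) ++ gW)) (dWord (chain k).2.1))
        (gate (same (gW ++ (dWord (dSwap (chain k).2.1) ++ gW)) (dWord (chain k).2.2))
          (same (qW ++ dWord (chain k).1) (dWord (dSwap (chain k).2.2) ++ qW))))))) 0 3 = true := by
  decide +kernel

/-- A correction is refuted. -/
noncomputable def badB (k : ℕ) : Bool :=
  match bad.getD k (0, [], (0, [])) with
  | (1, _, _) => differ (qW ++ dWord (corr k) ++ (qW ++ dWord (corr k))) []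
  | (2, w, _) => conjI SylData.iZ0 w (qW ++ dWord (corr k))
  | (3, _, d) => gate (okD d) (gate (same (gW ++ (qW ++ dWord (corr k))) (dWord d))
      (differ (dWord (dSwap d)) (qW ++ dWord (corr k) ++ gW)))
  | _ => false

theorem bad_ok : allFrom badB 1 7 = true := by decide +kernel

/-- The two permutations. -/
def bP (j : Fin 2) : Equiv.Perm (Fin 8) :=
  (((chain (j + 1)).1.2.map cE).prod : alternatingGroup (Fin 8))

/-- The permutation of the fixed-point-free involution. -/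
def vP : Equiv.Perm (Fin 8) := ((vD.2.map cE).prod : alternatingGroup (Fin 8))

/-- Paths from the first point. -/
def pathP (x : Fin 8) : Equiv.Perm (Fin 8) :=
  ((([[], [1, 0, 0], [0, 1, 1], [1], [1, 1, 1], [0, 0], [1, 1], [0]] : List (List (Fin 2))).getD
    x.val []).map bP).prod

theorem path_ok : ∀ x : Fin 8, pathP x 0 = x := by decide +kernel

theorem cent_ok : ∀ k : Fin 8, (∀ j : Fin 2, ∀ x : Fin 8, pathP (bP j x) k = bP j (pathP x k)) →
    (∀ x : Fin 8, pathP x k = x) ∨ (∀ x : Fin 8, pathP x k = vP x) := by decide +kernel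

theorem cent_spec {a : Equiv.Perm (Fin 8)} (h : ∀ j, a * bP j = bP j * a) : a = 1 ∨ a = vP := by
  have hp : ∀ x, a * pathP x = pathP x * a := by
    intro x
    refine Commute.list_prod_right _ _ fun p hp => ?_
    obtain ⟨j, -, rfl⟩ := List.mem_map.1 hp
    exact h j
  have ha : ∀ x, a x = pathP x (a 0) := fun x => by
    conv_lhs => rw [← path_ok x, ← Equiv.Perm.mul_apply, hp x, Equiv.Perm.mul_apply]
  rcases cent_ok (a 0) (fun j x => by
    rw [← ha, ← ha, ← Equiv.Perm.mul_apply, h j, Equiv.Perm.mul_apply]) with e | e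
  · exact Or.inl (Equiv.ext fun x => (ha x).trans (e x))
  · exact Or.inr (Equiv.ext fun x => (ha x).trans (e x))

theorem iota_comm_of {v w : ℕ} (hv : v < 4) (hw : w < 4) {a b : alternatingGroup (Fin 8)}
    (h : wE v * iota a * (wE w * iota b) = wE w * iota b * (wE v * iota a)) : a * b = b * a := by
  obtain ⟨r, hr, e⟩ := wE_mul hv hw
  refine (dec_inj hr hr ?_).2
  have e2 : wE w * wE v = wE r := (wE_comm hv hw).eq ▸ e
  calc wE r * iota (a * b) = wE v * (wE w * iota a) * iota b := by rw [← e, map_mul]; group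
    _ = wE v * iota a * (wE w * iota b) := by rw [(wE_comm_iota hw a).eq]; group
    _ = wE w * (iota b * wE v) * iota a := by rw [h]; group
    _ = wE r * iota (b * a) := by rw [← (wE_comm_iota hv b).eq, ← e2, map_mul]; group

variable {G : Type*} [Group G] [Finite G] {S : Setting G} (W : Swap S)

theorem Swap.iota_eq (a : alternatingGroup (Fin 8)) :
    W.s * S.Φ (iota a) * W.s = S.Φ (iota (c0 a)) := by
  have h : (MulAut.conj W.s).toMonoidHom.comp (S.Φ.comp iota) = (S.Φ.comp iota).comp c0.toMonoidHom := by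
    refine MonoidHom.eq_of_eqOn_dense closure_cE ?_
    rintro _ ⟨i, hi, rfl⟩
    show W.s * S.Φ (iota (cE i)) * W.s⁻¹ = S.Φ (iota (c0 (cE i)))
    rw [W.inv_eq, c0_eq hi, iota_cE hi, iota_cE qI_lt]
    exact W.cyc i hi
  have := DFunLike.congr_fun h a
  change W.s * S.Φ (iota a) * W.s⁻¹ = _ at this
  rwa [W.inv_eq] at this

theorem Swap.wE_eq {w : ℕ} (hw : w < 4) : W.s * S.Φ (wE w) * W.s = S.Φ (wE (wSwap w)) := by
  have := conj_swap_pair S (g := W.s) (by rw [W.inv_eq]; exact W.t_u) (by rw [W.inv_eq]; exact W.u_t) hw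
  rwa [W.inv_eq] at this

theorem Swap.dE_eq {d : ℕ × List ℕ} (hd : okD d = true) :
    W.s * S.Φ (dE d) * W.s = S.Φ (dE (dSwap d)) := by
  obtain ⟨h1, h2⟩ := okD_spec hd
  rw [dE_iota h2, dE_iota (d := dSwap d) (by
    intro i hi; obtain ⟨j, -, rfl⟩ := List.mem_map.1 hi; exact qI_lt), map_mul, map_mul]
  calc W.s * (S.Φ (wE d.1) * S.Φ (iota (d.2.map cE).prod)) * W.s
      = W.s * S.Φ (wE d.1) * (W.s * W.s) * S.Φ (iota (d.2.map cE).prod) * W.s := by rw [W.sq]; group
    _ = W.s * S.Φ (wE d.1) * W.s * (W.s * S.Φ (iota (d.2.map cE).prod) * W.s) := by group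
    _ = _ := by
      rw [W.wE_eq h1, W.iota_eq, map_list_prod c0, List.map_map]
      show _ = S.Φ (wE (wSwap d.1)) * S.Φ (iota (((dSwap d).2).map cE).prod)
      rw [show ((dSwap d).2).map cE = d.2.map fun i => cE (qI.getD i 0) by
        rw [dSwap, List.map_map]; rfl]
      congr 4
      exact List.map_congr_left fun i hi => c0_eq (h2 i hi)

theorem Swap.rot (i : ℕ) (hi : i < 6) :
    W.s * S.Φ (Amalgam.hw (Data.dGens.getD i [])) * W.s = S.Φ (Amalgam.hw (Data.dImgs.getD i [])) := by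
  have h := (allFrom_iff _ _ _).1 gen_ok i (Nat.zero_le _) (by omega)
  simp only [gate_eq, Bool.and_eq_true] at h
  rw [same_spec h.2.1, same_spec h.2.2]
  exact W.dE_eq h.1

theorem Swap.cube : W.s * S.Φ (hgen 0) * (W.s * S.Φ (hgen 0)) * (W.s * S.Φ (hgen 0)) = 1 := by
  obtain ⟨e0, e1, e2, e3⟩ := wE_vals
  set a := W.s * S.Φ (hgen 0) with ha
  have hai : ∀ y, a * y * a⁻¹ = W.s * (S.Φ (hgen 0) * y * (S.Φ (hgen 0))⁻¹) * W.s := fun y => by
    rw [ha, mul_inv_rev, W.inv_eq]; group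
  have h1 : a * S.Φ (wE 1) * a⁻¹ = S.Φ (wE 2) := by
    rw [hai, e1, ← map_inv, ← map_mul, ← map_mul, ← hT_central, mul_inv_cancel_right, W.t_u, e2]
  have h2 : a * S.Φ (wE 2) * a⁻¹ = S.Φ (wE 3) := by
    rw [hai, e2, ← map_inv, ← map_mul, ← map_mul, x_u, ← e3, W.wE_eq (by norm_num)]
    rfl
  have h3 : a * S.Φ (wE 3) * a⁻¹ = S.Φ (wE 1) := by
    rw [e3, map_mul]
    calc a * (S.Φ hT * S.Φ (hgen 2)) * a⁻¹ = a * S.Φ hT * a⁻¹ * (a * S.Φ (hgen 2) * a⁻¹) := by group
      _ = _ := by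
        rw [← e1, ← e2, h1, h2, e2, e3, ← map_mul, e1, hT_central (hgen 2), ← mul_assoc, hu_sq, one_mul]
  have hi : ∀ c, a * S.Φ (iota c) * a⁻¹ = S.Φ (iota c) := fun c => by
    rw [hai, ← map_inv, ← map_mul, ← map_mul, x_conj, W.iota_eq, ← MulAut.mul_apply, c0, ← map_mul, tp_sq,
      map_one, MulAut.one_apply]
  have hp3 : ∀ y, a * a * a * y * (a * a * a)⁻¹ = a * (a * (a * y * a⁻¹) * a⁻¹) * a⁻¹ := fun y => by group
  obtain ⟨w, hw, b, hb⟩ := fix_pair S (y := a * a * a)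
    (mul_inv_eq_iff_eq_mul.1 (by rw [← e1, hp3, h1, h2, h3]))
    (mul_inv_eq_iff_eq_mul.1 (by rw [← e2, hp3, h2, h3, h1]))
  have hb1 : b = 1 := by
    rw [← Subgroup.mem_bot, ← center_alt8, Subgroup.mem_center_iff]
    intro c
    have h := hp3 (S.Φ (iota c))
    rw [hi, hi, hi, hb, ← map_inv, ← map_mul, ← map_mul] at h
    have h' := mul_inv_eq_iff_eq_mul.1 (S.inj h)
    rw [mul_assoc, ← mul_assoc (iota c), ← (wE_comm_iota hw c).eq, mul_assoc] at h'
    exact (iota_injective (by rw [map_mul, map_mul]; exact mul_left_cancel h')).symm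
  rw [hb1, map_one, mul_one] at hb
  have hfix : a * S.Φ (wE w) * a⁻¹ = S.Φ (wE w) := by rw [← hb]; group
  rw [hb]
  interval_cases w
  · rw [e0, map_one]
  · exact absurd (wE_inj (by norm_num) (by norm_num) (S.inj (h1.symm.trans hfix))) (by norm_num)
  · exact absurd (wE_inj (by norm_num) (by norm_num) (S.inj (h2.symm.trans hfix))) (by norm_num)
  · exact absurd (wE_inj (by norm_num) (by norm_num) (S.inj (h3.symm.trans hfix))) (by norm_num)

theorem Swap.rel_zero :
    W.s * S.Φ (hgen 0) * W.s * (S.Φ (hgen 0))⁻¹ * W.s = S.Φ (Amalgam.hw [4, 0]) := by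
  have hx : (S.Φ (hgen 0))⁻¹ = S.Φ (hgen 0) * S.Φ hT := inv_eq_of_mul_eq_one_right (by
    rw [← mul_assoc, ← map_mul S.Φ (hgen 0)]; exact Φ_sq S)
  have h3 : W.s * S.Φ (hgen 0) * (W.s * S.Φ (hgen 0)) = (S.Φ (hgen 0))⁻¹ * W.s := by
    rw [eq_inv_of_mul_eq_one_left W.cube, mul_inv_rev, W.inv_eq]
  calc W.s * S.Φ (hgen 0) * W.s * (S.Φ (hgen 0))⁻¹ * W.s
      = W.s * S.Φ (hgen 0) * (W.s * S.Φ (hgen 0)) * (S.Φ hT * W.s) := by rw [hx]; group
    _ = W.s * S.Φ (hgen 0) * (W.s * S.Φ (hgen 0)) * (W.s * S.Φ (hgen 2)) := by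
        rw [← W.t_u, ← mul_assoc W.s, ← mul_assoc W.s, W.sq, one_mul]
    _ = (S.Φ (hgen 0))⁻¹ * (W.s * W.s) * S.Φ (hgen 2) := by rw [h3]; group
    _ = S.Φ (Amalgam.hw [4, 0]) := by
        rw [W.sq, mul_one, ← map_inv, ← map_mul]
        congr 1
        rw [← same_spec rel_facts.2.2.2.2.2.2.2.2.2.2.1, show ([1, 4] : List ℕ) = [1] ++ [4] from rfl,
          hw_append, hw_u, show Amalgam.hw [1] = (hgen 0)⁻¹ from hw_inv6 (w := [0]) (by decide)]

theorem Swap.s_conj : IsConj (S.Φ hT) W.s := by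
  have h1 : IsConj W.s (S.Φ (Amalgam.hw [4, 0])) := isConj_iff.2 ⟨W.s * S.Φ (hgen 0), by
    rw [mul_inv_rev, W.inv_eq, ← W.rel_zero]; group⟩
  have h2 : IsConj (S.Φ (hgen 2)) (S.Φ (Amalgam.hw [4, 0])) := by
    refine isConj_iff.2 ⟨(S.Φ (Amalgam.hw xuW))⁻¹, ?_⟩
    have := congrArg S.Φ (same_spec rel_facts.2.2.2.2.2.2.2.2.2.2.2)
    rw [hw_append, hw_append, hw_u, map_mul, map_mul] at this
    rw [inv_inv, mul_assoc, ← this, inv_mul_cancel_left]
  have h3 : IsConj (S.Φ hT) (S.Φ (hgen 2)) := isConj_iff.2 ⟨W.s, by rw [W.inv_eq]; exact W.t_u⟩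
  exact (h3.trans h2).trans h1.symm

theorem Swap.rel_one :
    W.s * S.Φ (Amalgam.hw cW) * W.s * S.Φ (Amalgam.hw hW) * W.s =
      S.Φ (Amalgam.hw (Data.tri.getD 1 ([], [], [])).2.2) := by
  obtain ⟨hg, hgg, hch, hv, hvb, -, hsv, hcd, hokc, hokv, -, -⟩ := rel_facts
  have hok1 : okD (1, []) = true := by decide
  have hok2 : okD (2, []) = true := by decide
  set g := S.Φ (Amalgam.hw gW) with hgdef
  have hg2 : g * g = 1 := by rw [hgdef, ← map_mul, ← hw_append, same_spec hgg, hw_nil, map_one]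
  have hgd : ∀ {e f : ℕ × List ℕ}, same (gW ++ (dWord e ++ gW)) (dWord f) = true →
      g * S.Φ (dE e) * g = S.Φ (dE f) := fun {e f} h => by
    rw [hgdef, ← map_mul, ← map_mul, dE, dE, ← same_spec h, hw_append, hw_append, mul_assoc]
  set Y := W.s * g * W.s * g * W.s with hY
  have hYY : Y * Y = 1 := by
    calc Y * Y = W.s * g * W.s * g * (W.s * W.s) * g * W.s * g * W.s := by rw [hY]; group
      _ = W.s * g * W.s * (g * g) * W.s * g * W.s := by rw [W.sq]; group
      _ = W.s * g * (W.s * W.s) * g * W.s := by rw [hg2]; group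
      _ = W.s * (g * g) * W.s := by rw [W.sq]; group
      _ = 1 := by rw [hg2, mul_one, W.sq]
  have hYi : Y⁻¹ = Y := inv_eq_of_mul_eq_one_right hYY
  have step : ∀ d d2 d3 : ℕ × List ℕ, okD d = true → okD d2 = true → okD d3 = true →
      g * S.Φ (dE (dSwap d)) * g = S.Φ (dE d2) → g * S.Φ (dE (dSwap d2)) * g = S.Φ (dE d3) →
      Y * S.Φ (dE d) * Y = S.Φ (dE (dSwap d3)) := by
    intro d d2 d3 o1 o2 o3 a1 a2
    calc Y * S.Φ (dE d) * Y
        = W.s * g * W.s * (g * (W.s * S.Φ (dE d) * W.s) * g) * W.s * g * W.s := by rw [hY]; group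
      _ = W.s * g * (W.s * S.Φ (dE d2) * W.s) * g * W.s := by rw [W.dE_eq o1, a1]; group
      _ = W.s * (g * S.Φ (dE (dSwap d2)) * g) * W.s := by rw [W.dE_eq o2]; group
      _ = _ := by rw [a2, W.dE_eq o3]
  have hdu : dE (2, []) = hgen 2 := hw_u
  have hdt : dE (1, []) = hT := hw_t
  have hYt : Y * S.Φ hT * Y = S.Φ hT := by
    have := step (1, []) vD (2, []) hok1 hokv hok2 (hgd hv) (by
      rw [show dE (dSwap vD) = dE vD from same_spec hsv]; exact hgd hvb)
    rwa [hdt, show dE (dSwap (2, [])) = hT from hdt] at this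
  obtain ⟨q, hq⟩ := S.mem_range Y (mul_inv_eq_iff_eq_mul.1 (by rw [hYi]; exact hYt))
  set δ := (Amalgam.hw qW)⁻¹ * q with hδ
  have hqd : q = Amalgam.hw qW * δ := by rw [hδ, mul_inv_cancel_left]
  have hqq : q * q = 1 := S.inj (by rw [map_mul, hq, hYY, map_one])
  have hcomm : ∀ k, k < 3 → δ * dE (chain k).1 = dE (chain k).1 * δ := fun k hk => by
    have h := (allFrom_iff _ _ _).1 chain_ok k (Nat.zero_le _) (by omega)
    simp only [gate_eq, Bool.and_eq_true] at h
    obtain ⟨o1, o2, o3, s1, s2, s3⟩ := h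
    have h1 := step _ _ _ o1 o2 o3 (hgd s1) (hgd s2)
    rw [← hq, ← map_mul, ← map_mul] at h1
    have h3 := same_spec s3
    rw [hw_append, hw_append] at h3
    have h2 : q * dE (chain k).1 = dE (dSwap (chain k).2.2) * q := by
      rw [← S.inj h1, mul_assoc _ q q, hqq, mul_one]
    calc δ * dE (chain k).1 = (Amalgam.hw qW)⁻¹ * (q * dE (chain k).1) := by rw [hδ]; group
      _ = (Amalgam.hw qW)⁻¹ * (dE (dSwap (chain k).2.2) * Amalgam.hw qW) *
          ((Amalgam.hw qW)⁻¹ * q) := by rw [h2]; group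
      _ = dE (chain k).1 * δ := by rw [dE, ← h3, inv_mul_cancel_left]; rfl
  obtain ⟨w, hw, a, ha⟩ := exists_dec (p := δ) (by
    have := hcomm 0 (by norm_num)
    rwa [show dE (chain 0).1 = hgen 2 from hdu] at this)
  have hperm : ∀ j : Fin 2, (a : Equiv.Perm (Fin 8)) * bP j = bP j * a := fun j => by
    have h := hcomm (j + 1) (by omega)
    obtain ⟨o1, o2⟩ := okD_spec (d := (chain (j + 1)).1) (by
      have h := (allFrom_iff _ _ _).1 chain_ok (j + 1) (Nat.zero_le _) (by omega)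
      simp only [gate_eq, Bool.and_eq_true] at h
      exact h.1)
    rw [dE_iota o2, ha] at h
    exact congrArg Subtype.val (iota_comm_of hw o1 h)
  obtain ⟨k, hk, hδk⟩ : ∃ k, k < 8 ∧ δ = dE (corr k) := by
    rcases cent_spec hperm with e | e
    · refine ⟨w, by omega, ?_⟩
      rw [dE_iota (by simp [corr, Nat.div_eq_of_lt hw]), ha]
      simp [corr, Nat.div_eq_of_lt hw, Nat.mod_eq_of_lt hw, show a = 1 from Subtype.ext e]
    · refine ⟨w + 4, by omega, ?_⟩
      have hc : corr (w + 4) = (w, vD.2) := by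
        rw [corr, if_neg (by omega), Nat.add_mod_right, Nat.mod_eq_of_lt hw]
      rw [hc, dE_iota (d := (w, vD.2)) (okD_spec hokv).2, ha, show a = (vD.2.map cE).prod from Subtype.ext e]
  have hk0 : k = 0 := by
    by_contra hne
    have hb := (allFrom_iff _ _ _).1 bad_ok k (by omega) (by omega)
    have hqk : Amalgam.hw (qW ++ dWord (corr k)) = q := by rw [hw_append, hqd, hδk]; rfl
    revert hb
    rw [badB]
    split
    · intro hb
      have := differ_spec hb
      rw [hw_append, hqk, hw_nil] at this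
      exact absurd hqq this
    · intro hb
      have h := conjI_spec special_ok.2.2.1 hb
      rw [hqk] at h
      have hYc : IsConj (S.Φ hT) (S.Φ q) := by
        refine W.s_conj.trans (isConj_iff.2 ⟨W.s * g, ?_⟩)
        rw [hq, hY, mul_inv_rev, W.inv_eq, inv_eq_of_mul_eq_one_right hg2]; group
      have conj_of : ∀ c : HP, c⁻¹ * E SylData.iZ0 * c = q → IsConj (S.Φ q) (S.Φ z0) := fun c e =>
        isConj_iff.2 ⟨S.Φ c, by rw [← e, z0, map_mul, map_mul, map_inv]; group⟩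
      exact absurd (hYc.trans (conj_of _ h)) S.not_conj_z0
    · intro hb
      simp only [gate_eq, Bool.and_eq_true] at hb
      obtain ⟨o, h1, h2⟩ := hb
      refine differ_spec h2 (S.inj ?_)
      show S.Φ (dE (dSwap _)) = _
      rw [← W.dE_eq o, dE, ← same_spec h1, hw_append gW, hw_append (qW ++ dWord (corr k)), hqk, map_mul, map_mul, hq, ← hgdef, hY]
      calc W.s * (g * (W.s * g * W.s * g * W.s)) * W.s
          = W.s * g * W.s * g * W.s * g * (W.s * W.s) := by group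
        _ = _ := by rw [W.sq, mul_one]
    · exact fun hb => absurd hb (by simp)
  have hq0 : q = Amalgam.hw qW := by
    rw [hqd, hδk, hk0, show dE (corr 0) = 1 from hw_nil, mul_one]
  -- back to the words of the relation
  have hcu : g = S.Φ (Amalgam.hw cW) * S.Φ (hgen 2) := by rw [hgdef, ← hg, hw_append, hw_u, map_mul]
  have hch' : S.Φ (Amalgam.hw cW) * S.Φ (Amalgam.hw hW) = 1 := by
    rw [← map_mul, ← hw_append, same_spec hch, hw_nil, map_one]
  have huu : S.Φ (hgen 2) * S.Φ (hgen 2) = 1 := by rw [← map_mul, hu_sq, map_one]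
  have hgi : g = S.Φ (hgen 2) * S.Φ (Amalgam.hw hW) := by
    rw [← inv_eq_of_mul_eq_one_right hg2, hcu, mul_inv_rev, inv_eq_of_mul_eq_one_right huu,
      inv_eq_of_mul_eq_one_right hch']
  have hus : S.Φ (hgen 2) * W.s = W.s * S.Φ hT := by
    rw [← W.u_t, ← mul_assoc, ← mul_assoc, W.sq, one_mul]
  have hcd' : S.Φ (Amalgam.hw cW) * (S.Φ hT * S.Φ (hgen 2)) * S.Φ (Amalgam.hw hW) = S.Φ (dE cD) := by
    rw [dE, ← same_spec hcd, hw_append, hw_append, show Amalgam.hw [0, 0, 4] = hT * hgen 2 by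
      rw [show ([0, 0, 4] : List ℕ) = [0, 0] ++ [4] from rfl, hw_append, hw_t, hw_u], map_mul, map_mul,
      map_mul, mul_assoc]
  have hfin : Y = W.s * S.Φ (Amalgam.hw cW) * W.s * S.Φ (Amalgam.hw hW) * W.s *
      S.Φ (dE (dSwap cD)) := by
    calc Y = W.s * (S.Φ (Amalgam.hw cW) * S.Φ (hgen 2)) * W.s *
          (S.Φ (hgen 2) * S.Φ (Amalgam.hw hW)) * W.s := by rw [hY, ← hgi, ← hcu]
      _ = W.s * S.Φ (Amalgam.hw cW) * (S.Φ (hgen 2) * W.s) * S.Φ (hgen 2) * S.Φ (Amalgam.hw hW) * W.s := by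
          group
      _ = W.s * S.Φ (Amalgam.hw cW) * W.s * ((S.Φ (Amalgam.hw hW)) * (S.Φ (Amalgam.hw cW))) *
          (S.Φ hT * S.Φ (hgen 2)) * S.Φ (Amalgam.hw hW) * W.s := by
          rw [hus, mul_eq_one_comm.1 hch']; group
      _ = W.s * S.Φ (Amalgam.hw cW) * W.s * S.Φ (Amalgam.hw hW) *
          (S.Φ (Amalgam.hw cW) * (S.Φ hT * S.Φ (hgen 2)) * S.Φ (Amalgam.hw hW)) * W.s := by group
      _ = W.s * S.Φ (Amalgam.hw cW) * W.s * S.Φ (Amalgam.hw hW) * (W.s * W.s) * S.Φ (dE cD) * W.s := by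
          rw [hcd', W.sq, mul_one]
      _ = _ := by rw [← W.dE_eq hokc]; group
  rw [← hq, hq0, qW, hw_append, map_mul] at hfin
  exact (mul_right_cancel hfin).symm

/-- The relations of the amalgam hold for some involution. -/
theorem exists_rel [IsSimpleGroup G] (S : Setting G)
    (hup : ¬ IsConj (S.Φ hT) (S.Φ (E SylData.iUp))) : ∃ s : G, Amalgam.Rel S.Φ s := by
  obtain ⟨W⟩ := exists_swap S hup
  refine ⟨W.s, ⟨W.sq, W.rot, fun r hr => ?_⟩⟩
  interval_cases r
  · show W.s * S.Φ (Amalgam.hw [0]) * W.s * S.Φ (Amalgam.hw [1]) * W.s = S.Φ (Amalgam.hw [4, 0])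
    rw [hw_x, show Amalgam.hw [1] = (hgen 0)⁻¹ from hw_inv6 (w := [0]) (by decide), map_inv]
    exact W.rel_zero
  · exact W.rel_one

end Cfsg.Agent.HNRec.Fusion
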