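import Cfsg.Agent.HNRec.Fusion.Cent
import Cfsg.Agent.HNRec.Fusion.Fused
import Cfsg.Agent.S2119

/-!
An involution exchanging the central involution and `z` that acts on the alternating group as a transposition.
-/

set_option autoImplicit false
set_option maxRecDepth 100000
set_option linter.unusedSectionVars false

namespace Cfsg.Agent.HNRec.Fusion

open Cfsg.Agent.CosetCert Cfsg.Agent.DCoset FusionData
open scoped commutatorElement

/-- The transposition. -/
def tp : Equiv.Perm (Fin 8) := Equiv.swap 3 4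

theorem tp_sq : tp * tp = 1 := Equiv.swap_mul_self _ _

theorem sign_tp : Equiv.Perm.sign tp = -1 := Equiv.Perm.sign_swap (by decide)

/-- Its action on the alternating group. -/
noncomputable def c0 : MulAut (alternatingGroup (Fin 8)) := MulAut.conjNormal tp

theorem c0_cE : ∀ i : Fin 6, ∀ x : Fin 8,
    (tp * (cE i : Equiv.Perm (Fin 8)) * tp⁻¹) x = (cE (qI.getD i 0) : Equiv.Perm (Fin 8)) x := by
  decide +kernel

theorem c0_eq {i : ℕ} (hi : i < 6) : c0 (cE i) = cE (qI.getD i 0) := by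
  apply Subtype.ext
  rw [c0, MulAut.conjNormal_apply]
  exact Equiv.ext (c0_cE ⟨i, hi⟩)

theorem qI_lt {i : ℕ} : qI.getD i 0 < 6 := by
  rcases Nat.lt_or_ge i 6 with h | h
  · interval_cases i <;> decide
  · rw [List.getD_eq_default _ _ (by simpa [qI] using h)]; norm_num

theorem x_conj (a : alternatingGroup (Fin 8)) : hgen 0 * iota a * (hgen 0)⁻¹ = iota (c0 a) := by
  have h : ((MulAut.conj (hgen 0)).toMonoidHom.comp iota) = iota.comp c0.toMonoidHom := by
    refine MonoidHom.eq_of_eqOn_dense closure_cE ?_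
    rintro _ ⟨i, hi, rfl⟩
    show hgen 0 * iota (cE i) * (hgen 0)⁻¹ = iota (c0 (cE i))
    rw [c0_eq hi, iota_cE hi, iota_cE qI_lt, mul_assoc]
    exact (eE_spec hi).2.2.2.1
  exact DFunLike.congr_fun h a

theorem x_u : hgen 0 * hgen 2 * (hgen 0)⁻¹ = hT * hgen 2 := by
  rw [← wE_vals.2.2.2, mul_inv_eq_iff_eq_mul, ← hw_x, ← hw_u, wE, ← hw_append, ← hw_append]
  exact same_spec (by decide +kernel)

theorem xor_sq {w : ℕ} (hw : w < 4) : wE w * wE w = 1 := by
  rw [wE, ← hw_append, ← hw_nil]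
  apply same_spec
  interval_cases w <;> decide +kernel

variable {G : Type*} [Group G] [Finite G] (S : Setting G)

/-- The data of the exchanging involution. -/
structure Swap where
  /-- the involution -/
  s : G
  sq : s * s = 1
  t_u : s * S.Φ hT * s = S.Φ (hgen 2)
  cyc : ∀ i, i < 6 → s * S.Φ (eE i) * s = S.Φ (eE (qI.getD i 0))

variable {S}

theorem Swap.inv_eq (W : Swap S) : W.s⁻¹ = W.s := inv_eq_of_mul_eq_one_right W.sq

theorem Swap.u_t (W : Swap S) : W.s * S.Φ (hgen 2) * W.s = S.Φ hT := by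
  rw [← W.t_u, ← mul_assoc, ← mul_assoc, W.sq, one_mul, mul_assoc, W.sq, mul_one]

variable (S)

/-- An element commuting with the images of the central involution and `z` decomposes. -/
theorem fix_pair {y : G} (ht : y * S.Φ hT = S.Φ hT * y) (hu : y * S.Φ (hgen 2) = S.Φ (hgen 2) * y) :
    ∃ w, w < 4 ∧ ∃ a, y = S.Φ (wE w * iota a) := by
  obtain ⟨p, rfl⟩ := S.mem_range y ht
  rw [← map_mul, ← map_mul] at hu
  obtain ⟨w, hw, a, rfl⟩ := exists_dec (S.inj hu)
  exact ⟨w, hw, a, rfl⟩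

theorem conj_swap_pair {g : G} (h1 : g * S.Φ hT * g⁻¹ = S.Φ (hgen 2))
    (h2 : g * S.Φ (hgen 2) * g⁻¹ = S.Φ hT) {w : ℕ} (hw : w < 4) :
    g * S.Φ (wE w) * g⁻¹ = S.Φ (wE (wSwap w)) := by
  obtain ⟨e0, e1, e2, e3⟩ := wE_vals
  interval_cases w
  · show g * S.Φ (wE 0) * g⁻¹ = S.Φ (wE 0)
    rw [e0, map_one]; group
  · show g * S.Φ (wE 1) * g⁻¹ = S.Φ (wE 2)
    rw [e1, e2, h1]
  · show g * S.Φ (wE 2) * g⁻¹ = S.Φ (wE 1)
    rw [e1, e2, h2]
  · show g * S.Φ (wE 3) * g⁻¹ = S.Φ (wE 3)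
    rw [e3, map_mul]
    calc g * (S.Φ hT * S.Φ (hgen 2)) * g⁻¹ = g * S.Φ hT * g⁻¹ * (g * S.Φ (hgen 2) * g⁻¹) := by group
      _ = _ := by rw [h1, h2, ← map_mul, ← map_mul, hT_central]

theorem exists_swap [IsSimpleGroup G] (hup : ¬ IsConj (S.Φ hT) (S.Φ (E SylData.iUp))) :
    Nonempty (Swap S) := by
  obtain ⟨g, hgu, hgt⟩ := exists_exchange S hup
  set t := S.Φ hT with htdef
  set u := S.Φ (hgen 2) with hudef
  -- the action of `g` on the alternating group
  have hf : ∀ a, ∃ w, w < 4 ∧ ∃ a', g * S.Φ (iota a) * g⁻¹ = S.Φ (wE w * iota a') := by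
    intro a
    have h1 : S.Φ (iota a) * u = u * S.Φ (iota a) := by rw [hudef, ← map_mul, ← map_mul, iota_comm_u]
    have h2 : S.Φ (iota a) * t = t * S.Φ (iota a) := by rw [htdef, ← map_mul, ← map_mul, hT_central]
    refine fix_pair S ?_ ?_
    · rw [← htdef]
      calc g * S.Φ (iota a) * g⁻¹ * t = g * S.Φ (iota a) * g⁻¹ * (g * u * g⁻¹) := by rw [hgu]
        _ = g * (S.Φ (iota a) * u) * g⁻¹ := by group
        _ = g * u * g⁻¹ * (g * S.Φ (iota a) * g⁻¹) := by rw [h1]; group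
        _ = _ := by rw [hgu]
    · rw [← hudef]
      calc g * S.Φ (iota a) * g⁻¹ * u = g * S.Φ (iota a) * g⁻¹ * (g * t * g⁻¹) := by rw [hgt]
        _ = g * (S.Φ (iota a) * t) * g⁻¹ := by group
        _ = g * t * g⁻¹ * (g * S.Φ (iota a) * g⁻¹) := by rw [h2]; group
        _ = _ := by rw [hgt]
  let Φi : alternatingGroup (Fin 8) →* G := S.Φ.comp iota
  let cg : alternatingGroup (Fin 8) →* G := (MulAut.conj g).toMonoidHom.comp Φi
  have hcg : ∀ a, cg a = g * S.Φ (iota a) * g⁻¹ := fun a => rfl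
  have hall : ∀ a, cg a ∈ Φi.range := by
    have : commutator (alternatingGroup (Fin 8)) ≤ Φi.range.comap cg := by
      rw [commutator_def, Subgroup.commutator_le]
      intro a _ b _
      obtain ⟨v, hv, a', ha⟩ := hf a
      obtain ⟨w, hw, b', hb⟩ := hf b
      refine ⟨⁅a', b'⁆, ?_⟩
      rw [map_commutatorElement cg, hcg, hcg, ha, hb, ← map_commutatorElement, commutator_dec hv hw]
      rfl
    intro a
    exact this (commutator_alt8 ▸ Subgroup.mem_top a)
  choose α hα using hall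
  have hα' : ∀ a, S.Φ (iota (α a)) = g * S.Φ (iota a) * g⁻¹ := fun a => hα a
  let αh : alternatingGroup (Fin 8) →* alternatingGroup (Fin 8) := MonoidHom.mk' α fun a b =>
    iota_injective (S.inj (by rw [hα', map_mul iota (α a), map_mul S.Φ, hα', hα', map_mul, map_mul]; group))
  have hαi : Function.Injective αh := fun a b e => iota_injective (S.inj (by
    have h := congrArg (fun c => S.Φ (iota c)) e
    simp only [αh, MonoidHom.mk'_apply, hα'] at h
    exact mul_left_cancel (mul_right_cancel h)))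
  obtain ⟨π, hπ⟩ := (Cfsg.Agent.S2119.result 8 (by norm_num) (by norm_num)).2
    (MulEquiv.ofBijective αh (Finite.injective_iff_bijective.1 hαi))
  have hact : ∀ a, g * S.Φ (iota a) * g⁻¹ = S.Φ (iota (MulAut.conjNormal π a)) := fun a => by
    rw [hπ]; exact (hα' a).symm
  -- parity
  set x := S.Φ (hgen 0) with hxdef
  have hxa : ∀ a, x * S.Φ (iota a) * x⁻¹ = S.Φ (iota (c0 a)) := fun a => by
    rw [hxdef, ← map_inv, ← map_mul, ← map_mul, x_conj]
  have hxt : x * t * x⁻¹ = t := by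
    rw [hxdef, htdef, ← map_inv, ← map_mul, ← map_mul, ← hT_central, mul_inv_cancel_right]
  have hxu : x * u * x⁻¹ = t * u := by
    rw [hxdef, hudef, htdef, ← map_inv, ← map_mul, ← map_mul, x_u, map_mul]
  have htu : t * u = u * t := by rw [htdef, hudef, ← map_mul, ← map_mul, hT_central]
  set a1 := g * x with ha1
  have hcyc : a1 * t * a1⁻¹ = u ∧ a1 * u * a1⁻¹ = t * u := by
    constructor
    · calc a1 * t * a1⁻¹ = g * (x * t * x⁻¹) * g⁻¹ := by rw [ha1]; group
        _ = u := by rw [hxt, hgt]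
    · calc a1 * u * a1⁻¹ = g * (x * u * x⁻¹) * g⁻¹ := by rw [ha1]; group
        _ = (g * t * g⁻¹) * (g * u * g⁻¹) := by rw [hxu]; group
        _ = t * u := by rw [hgt, hgu, htu]
  obtain ⟨hc1, hc2⟩ := hcyc
  have huu : u * u = 1 := by rw [hudef, ← map_mul, hu_sq, map_one]
  have hc3 : a1 * (t * u) * a1⁻¹ = t := by
    calc a1 * (t * u) * a1⁻¹ = a1 * t * a1⁻¹ * (a1 * u * a1⁻¹) := by group
      _ = _ := by rw [hc1, hc2, htu, ← mul_assoc, huu, one_mul]
  have hp3 : ∀ y, a1 * a1 * a1 * y * (a1 * a1 * a1)⁻¹ = a1 * (a1 * (a1 * y * a1⁻¹) * a1⁻¹) * a1⁻¹ :=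
    fun y => by group
  obtain ⟨w, hw, b, hb⟩ := fix_pair S (y := a1 * a1 * a1)
    (mul_inv_eq_iff_eq_mul.1 (by rw [← htdef, hp3, hc1, hc2, hc3]))
    (mul_inv_eq_iff_eq_mul.1 (by rw [← hudef, hp3, hc2, hc3, hc1]))
  have hβ : ∀ a, a1 * S.Φ (iota a) * a1⁻¹ = S.Φ (iota (MulAut.conjNormal (π * tp) a)) := fun a => by
    calc a1 * S.Φ (iota a) * a1⁻¹ = g * (x * S.Φ (iota a) * x⁻¹) * g⁻¹ := by rw [ha1]; group
      _ = _ := by rw [hxa, hact, map_mul]; rfl
  have hb' : MulAut.conjNormal ((π * tp) ^ 3) =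
      (MulAut.conjNormal (b : Equiv.Perm (Fin 8)) : MulAut (alternatingGroup (Fin 8))) := by
    refine MulEquiv.ext fun a => iota_injective (S.inj ?_)
    rw [pow_three', map_mul, map_mul, MulAut.mul_apply, MulAut.mul_apply, ← hβ, ← hβ, ← hβ, ← hp3, hb,
      ← map_inv, ← map_mul, ← map_mul]
    have hbc : MulAut.conjNormal (b : Equiv.Perm (Fin 8)) a = b * a * b⁻¹ :=
      Subtype.ext (MulAut.conjNormal_apply _ _)
    rw [hbc, map_mul iota, map_mul iota, map_inv]
    congr 1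
    calc wE w * iota b * iota a * (wE w * iota b)⁻¹
        = wE w * (iota b * iota a * (iota b)⁻¹) * (wE w)⁻¹ := by group
      _ = _ := by
        rw [show iota b * iota a * (iota b)⁻¹ = iota (b * a * b⁻¹) by rw [map_mul, map_mul, map_inv],
          (wE_comm_iota hw _).eq, mul_inv_cancel_right]
  have hsign : Equiv.Perm.sign (π * tp) = 1 := by
    have h := congrArg Equiv.Perm.sign ((Cfsg.Agent.S2119.result 8 (by norm_num) (by norm_num)).1 hb')
    rw [map_pow, Equiv.Perm.mem_alternatingGroup.1 b.2] at h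
    rcases Int.units_eq_one_or (Equiv.Perm.sign (π * tp)) with e | e
    · exact e
    · rw [e] at h; exact absurd h (by decide)
  let b' : alternatingGroup (Fin 8) := ⟨π * tp, Equiv.Perm.mem_alternatingGroup.2 hsign⟩
  set s0 := (S.Φ (iota b'))⁻¹ * g with hs0
  have hbt : (S.Φ (iota b'))⁻¹ * t * S.Φ (iota b') = t := by
    rw [mul_assoc, htdef, ← map_mul S.Φ hT, hT_central, map_mul, inv_mul_cancel_left]
  have hbu : (S.Φ (iota b'))⁻¹ * u * S.Φ (iota b') = u := by
    rw [mul_assoc, hudef, ← map_mul S.Φ (hgen 2), ← iota_comm_u, map_mul, inv_mul_cancel_left]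
  have h0t : s0 * t * s0⁻¹ = u := by
    calc s0 * t * s0⁻¹ = (S.Φ (iota b'))⁻¹ * (g * t * g⁻¹) * S.Φ (iota b') := by rw [hs0]; group
      _ = u := by rw [hgt, hbu]
  have h0u : s0 * u * s0⁻¹ = t := by
    calc s0 * u * s0⁻¹ = (S.Φ (iota b'))⁻¹ * (g * u * g⁻¹) * S.Φ (iota b') := by rw [hs0]; group
      _ = t := by rw [hgu, hbt]
  have h0a : ∀ a, s0 * S.Φ (iota a) * s0⁻¹ = S.Φ (iota (c0 a)) := fun a => by
    calc s0 * S.Φ (iota a) * s0⁻¹ = (S.Φ (iota b'))⁻¹ * (g * S.Φ (iota a) * g⁻¹) * S.Φ (iota b') := by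
          rw [hs0]; group
      _ = S.Φ (iota (b'⁻¹ * MulAut.conjNormal π a * b')) := by
          simp only [hact, map_mul, map_inv]
      _ = _ := by
          congr 2
          apply Subtype.ext
          rw [c0, MulAut.conjNormal_apply, Subgroup.coe_mul, Subgroup.coe_mul, Subgroup.coe_inv,
            MulAut.conjNormal_apply]
          show (π * tp)⁻¹ * (π * a * π⁻¹) * (π * tp) = tp * a * tp⁻¹
          rw [inv_eq_of_mul_eq_one_right tp_sq, mul_inv_rev, inv_eq_of_mul_eq_one_right tp_sq]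
          group
  obtain ⟨v, hv, d, hd⟩ := fix_pair S (y := s0 * s0)
    (mul_inv_eq_iff_eq_mul.1 (by
      rw [← htdef]
      calc s0 * s0 * t * (s0 * s0)⁻¹ = s0 * (s0 * t * s0⁻¹) * s0⁻¹ := by group
        _ = t := by rw [h0t, h0u]))
    (mul_inv_eq_iff_eq_mul.1 (by
      rw [← hudef]
      calc s0 * s0 * u * (s0 * s0)⁻¹ = s0 * (s0 * u * s0⁻¹) * s0⁻¹ := by group
        _ = u := by rw [h0u, h0t]))
  have hd1 : d = 1 := by
    rw [← Subgroup.mem_bot, ← center_alt8, Subgroup.mem_center_iff]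
    intro a
    have h1 : s0 * s0 * S.Φ (iota a) * (s0 * s0)⁻¹ = S.Φ (iota a) := by
      calc s0 * s0 * S.Φ (iota a) * (s0 * s0)⁻¹ = s0 * (s0 * S.Φ (iota a) * s0⁻¹) * s0⁻¹ := by group
        _ = _ := by
          rw [h0a, h0a, ← MulAut.mul_apply, c0, ← map_mul, tp_sq, map_one, MulAut.one_apply]
    rw [hd, ← map_inv, ← map_mul, ← map_mul] at h1
    have h2 := mul_inv_eq_iff_eq_mul.1 (S.inj h1)
    rw [mul_assoc, ← mul_assoc (iota a), ← (wE_comm_iota hv a).eq, mul_assoc] at h2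
    exact (iota_injective (by rw [map_mul, map_mul]; exact mul_left_cancel h2)).symm
  rw [hd1, map_one, mul_one] at hd
  have hfix : wSwap v = v := by
    have h1 : s0 * S.Φ (wE v) * s0⁻¹ = S.Φ (wE v) := by rw [← hd]; group
    rw [conj_swap_pair S h0t h0u hv] at h1
    exact wE_inj (by interval_cases v <;> decide) hv (S.inj h1)
  obtain ⟨s, hsq, hs⟩ : ∃ s : G, s * s = 1 ∧ ∃ r : HP, (∀ a, r * iota a = iota a * r) ∧
      r * hgen 2 = hgen 2 * r ∧ s = s0 * S.Φ r := by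
    obtain ⟨e0, e1, e2, e3⟩ := wE_vals
    have hv' : v = 0 ∨ v = 3 := by
      interval_cases v
      · exact Or.inl rfl
      · exact absurd hfix (by decide)
      · exact absurd hfix (by decide)
      · exact Or.inr rfl
    rcases hv' with rfl | rfl
    · exact ⟨s0, by rw [hd, e0, map_one], 1, fun a => by rw [one_mul, mul_one],
        by rw [one_mul, mul_one], by rw [map_one, mul_one]⟩
    · refine ⟨s0 * t, ?_, hT, fun a => hT_central _, hT_central _, by rw [htdef]⟩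
      have h1 : s0 * t = u * s0 := mul_inv_eq_iff_eq_mul.1 h0t
      calc s0 * t * (s0 * t) = u * s0 * (s0 * t) := congrArg (· * (s0 * t)) h1
        _ = u * (s0 * s0) * t := by group
        _ = 1 := by
          rw [hd, e3, map_mul, ← htdef, ← hudef, htu, ← mul_assoc, huu, one_mul, htdef, Φ_sq]
  obtain ⟨r, hri, hru, rfl⟩ := hs
  have hsi : (s0 * S.Φ r)⁻¹ = s0 * S.Φ r := inv_eq_of_mul_eq_one_right hsq
  refine ⟨⟨s0 * S.Φ r, hsq, ?_, fun i hi => ?_⟩⟩
  · rw [← htdef, ← hudef]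
    calc s0 * S.Φ r * t * (s0 * S.Φ r) = s0 * S.Φ r * t * (s0 * S.Φ r)⁻¹ := by rw [hsi]
      _ = s0 * (S.Φ r * t * (S.Φ r)⁻¹) * s0⁻¹ := by group
      _ = _ := by rw [htdef, ← map_inv, ← map_mul, ← map_mul, ← hT_central, mul_inv_cancel_right, ← htdef, h0t]
  · calc s0 * S.Φ r * S.Φ (eE i) * (s0 * S.Φ r) = s0 * S.Φ r * S.Φ (eE i) * (s0 * S.Φ r)⁻¹ := by rw [hsi]
      _ = s0 * (S.Φ r * S.Φ (eE i) * (S.Φ r)⁻¹) * s0⁻¹ := by group
      _ = _ := by
        rw [← iota_cE hi, ← map_inv, ← map_mul, ← map_mul, hri, mul_inv_cancel_right, h0a, c0_eq hi,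
          iota_cE qI_lt]

end Cfsg.Agent.HNRec.Fusion
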