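import Cfsg.Agent.HNRec.Setting
import Cfsg.Agent.HNRec.Amalgam.Rel

/-!
Words of the model in numbered letters, compared by the images of the base points.
-/

set_option autoImplicit false
set_option maxRecDepth 100000

namespace Cfsg.Agent.HNRec.Fusion

open Cfsg.Agent.CosetCert Cfsg.Agent.DCoset Cfsg.Agent.HNRec.Amalgam

theorem hw_nil : Amalgam.hw [] = 1 := HNOrder.wd_nil _

theorem hw_append (a b : List ℕ) : Amalgam.hw (a ++ b) = Amalgam.hw a * Amalgam.hw b := by
  rw [Amalgam.hw, Amalgam.hw, Amalgam.hw, lw, lw, lw, List.map_append, HNOrder.wd_append]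

theorem hw_cons (g : ℕ) (w : List ℕ) : Amalgam.hw (g :: w) = hm.q g * Amalgam.hw w := by
  rw [show g :: w = [g] ++ w from rfl, hw_append, hm_q]
  rfl

theorem hw_u : Amalgam.hw [4] = hgen 2 := rfl

theorem hw_x : Amalgam.hw [0] = hgen 0 := rfl

theorem hw_t : Amalgam.hw [0, 0] = hT := by
  rw [show ([0, 0] : List ℕ) = [0] ++ [0] from rfl, hw_append]
  rfl

/-- The inverse word. -/
def inv6 (w : List ℕ) : List ℕ := w.reverse.map fun a => a ^^^ 1

theorem hw_inv6 : ∀ {w : List ℕ}, w.all (Nat.blt · 6) = true →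
    Amalgam.hw (inv6 w) = (Amalgam.hw w)⁻¹ := by
  intro w
  induction w with
  | nil => intro _; rw [inv6, List.reverse_nil, List.map_nil, hw_nil, inv_one]
  | cons g w ih =>
    intro h
    rw [List.all_cons, Bool.and_eq_true, Nat.blt_eq] at h
    have e : inv6 (g :: w) = inv6 w ++ [g ^^^ 1] := by rw [inv6, inv6, List.reverse_cons, List.map_append]; rfl
    have hg : Amalgam.hw [g ^^^ 1] = (hm.q g)⁻¹ := by
      have e2 : Amalgam.hw [g] = hm.q g := by rw [hw_cons, hw_nil, mul_one]
      rw [← e2, Amalgam.hw, Amalgam.hw, ← HNOrder.wd_invRev]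
      congr 1
      have hg6 := h.1
      interval_cases g <;> decide
    rw [e, hw_append, ih h.2, hg, hw_cons, mul_inv_rev]

/-- The images of a tuple under a word. -/
noncomputable def keyF : List ℕ → ℕ → ℕ :=
  fun w => List.rec (motive := fun _ => ℕ → ℕ) (fun v => v)
    (fun g _ ih v => force (mapTup (DCoset.HN.tab.act g) 6 v) ih) w

/-- The images of the base points under a word. -/
noncomputable def key (w : List ℕ) : ℕ := keyF w DCoset.HN.tab.base

theorem keyF_tup : ∀ (w : List ℕ) (a : HP), w.all (Nat.blt · 6) = true →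
    keyF w (hm.tup a) = hm.tup (a * Amalgam.hw w)
  | [], a, _ => by rw [hw_nil, mul_one]; rfl
  | g :: w, a, h => by
    rw [List.all_cons, Bool.and_eq_true, Nat.blt_eq] at h
    show force (mapTup (DCoset.HN.tab.act g) 6 (hm.tup a)) (keyF w) = _
    rw [force_eq]
    have hs := hm.step a g (by rw [hm_tab]; exact h.1)
    rw [hm_tab] at hs
    rw [show mapTup (DCoset.HN.tab.act g) 6 (hm.tup a) = hm.tup (a * hm.q g) from hs.symm,
      keyF_tup w _ h.2, mul_assoc, hw_cons]

theorem key_tup {w : List ℕ} (h : w.all (Nat.blt · 6) = true) : key w = hm.tup (Amalgam.hw w) := by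
  rw [key, ← hm_base, ← hm.one, keyF_tup w 1 h, one_mul]

/-- Two words agree. -/
noncomputable def same (u v : List ℕ) : Bool :=
  gate (u.all (Nat.blt · 6)) (gate (v.all (Nat.blt · 6)) (Nat.beq (key u) (key v)))

theorem same_spec {u v : List ℕ} (h : same u v = true) : Amalgam.hw u = Amalgam.hw v := by
  simp only [same, gate_eq, Bool.and_eq_true, Nat.beq_eq] at h
  obtain ⟨hu, hv, hk⟩ := h
  exact hm.inj (by rw [← key_tup hu, ← key_tup hv, hk])

/-- Two words differ. -/
noncomputable def differ (u v : List ℕ) : Bool :=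
  gate (u.all (Nat.blt · 6)) (gate (v.all (Nat.blt · 6)) (Bool.not (Nat.beq (key u) (key v))))

theorem differ_spec {u v : List ℕ} (h : differ u v = true) : Amalgam.hw u ≠ Amalgam.hw v := by
  simp only [differ, gate_eq, Bool.and_eq_true, Bool.not_eq_true', ← Bool.not_eq_true, Nat.beq_eq] at h
  obtain ⟨hu, hv, hk⟩ := h
  exact fun e => hk (by rw [key_tup hu, key_tup hv, e])

/-- A word conjugates element `i` of the Sylow subgroup to another word. -/
noncomputable def conjI (i : ℕ) (w v : List ℕ) : Bool :=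
  gate (w.all (Nat.blt · 6)) (gate (v.all (Nat.blt · 6)) (Nat.beq (keyF w (tupOf i)) (key (w ++ v))))

theorem conjI_spec {i : ℕ} (hi : i < 2048) {w v : List ℕ} (h : conjI i w v = true) :
    (Amalgam.hw w)⁻¹ * E i * Amalgam.hw w = Amalgam.hw v := by
  simp only [conjI, gate_eq, Bool.and_eq_true, Nat.beq_eq] at h
  obtain ⟨hw', hv, hk⟩ := h
  rw [← (E_spec hi).1, keyF_tup _ _ hw', key_tup (by rw [List.all_append, hw', hv]; rfl)] at hk
  have e := hm.inj hk
  rw [hw_append] at e
  rw [mul_assoc, e, inv_mul_cancel_left]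

end Cfsg.Agent.HNRec.Fusion
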